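import Cfsg.Agent.Mrg.Omega.Node.SymG
import Cfsg.Agent.Mrg.Omega.EK3.Q.Split
import Cfsg.Agent.Mrg.Omega.OM.SWT.CaseLS
import Cfsg.Agent.Mrg.Omega.OM.SWT.Sel
import Cfsg.Agent.Mrg.Omega.NO3S.EMany.Four
import Cfsg.Agent.Mrg.Omega.EK3.Q.Claim
import Cfsg.Agent.Mrg.Omega.EK3.Q.Def
import Cfsg.Agent.Mrg.Omega.Node.MulXTwo
import Cfsg.Agent.Mrg.Omega.OM.SWT.Base

section


/-!
# The case (L) of GammaFF, natural blocks, `q > 2`: block generation in `C_G(Y₀)`, `Y₀ ≤ Z_J`, over `MulX.MulL`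

* `Meets Z Y` : `Y` meets every `Z l` nontrivially;
* `LowE h`, `OffE h` : LL and OffW (the sockets of `OM/SWT/{CaseLS, LowLev}`) for the centralisers of the `Y ≤ Z_J`
  meeting every `Z l`;
* `ln`, `exists_blk` : a minimal parabolic `R` over `T ≥ B` with `O₂(P) ≤ O₂(R)`, moving `Ω₁Z(T)`, is `⟨T, L'⟩`, `(L', W i)`
  a block;
* `cent_le` : generation of `C_G(Y₀)`.
-/

set_option autoImplicit false
set_option linter.unusedSectionVars false

namespace Cfsg.Agent.Omega.EK3.QL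

open Subgroup Cfsg Cfsg.Agent.ZN.ChoiceBase
open Cfsg.Agent.ZN (jj zj bau zc zl o2)
open Cfsg.Agent.ZN.ChoiceSit (Syl exists_syl syl_conj le_o2 o2_le_syl isPGroup_o2 le_normalizer_o2)
open Cfsg.Agent.MinSimple.MinParabolic (IsMinPar)
open Cfsg.Agent.Omega.NO3S.EThree.Frame (Bg)
open Cfsg.Agent.Omega.NO3S.Level (nxt)
open Cfsg.Agent.Omega.Node.MultiOf (FBl)
open Cfsg.Agent.Omega.Node.MulX
open Cfsg.Agent.Omega.OM.SWT

universe u

variable {G : Type u} [Group G] [Finite G] {S : Sylow 2 G} {P B ZJ : Subgroup G} {k : ℕ}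
  {L W Z C A : Fin k → Subgroup G} {q : ℕ}

/-- `Y` meets every `Z l` nontrivially -/
def Meets (Z : Fin k → Subgroup G) (Y : Subgroup G) : Prop := ∀ i, ∃ z ∈ Z i, z ≠ 1 ∧ z ∈ Y

/-- **LL** in the centralisers of the `Y ≤ Z_J` meeting every `Z l` -/
def LowE (h : MulL S P B ZJ L W Z C A q) : Prop :=
  ∀ Y : Subgroup G, Y ≤ ZJ → Meets Z Y → LowW h.cl (centralizer (Y : Set G))

/-- **OffW** in the centralisers of the `Y ≤ Z_J` meeting every `Z l` -/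
def OffE (h : MulL S P B ZJ L W Z C A q) : Prop :=
  ∀ Y : Subgroup G, Y ≤ ZJ → Meets Z Y → OffC h.cl (normalizer (ZJ : Set G)) (centralizer (Y : Set G))

theorem eqBT (h : MulL S P B ZJ L W Z C A q) : B = BT (nL h.cl) := h.eqB

theorem eqZT (h : MulL S P B ZJ L W Z C A q) : ZJ = ZT (nL h.cl) := h.eZ

theorem ZJ_V (h : MulL S P B ZJ L W Z C A q) : ZJ ≤ zl (S : Subgroup G) P := h.fr.ZJV

theorem ZT_V (h : MulL S P B ZJ L W Z C A q) : ZT (nL h.cl) ≤ zl (S : Subgroup G) P := by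
  rw [← eqZT h]; exact ZJ_V h

private theorem frL_congr {ι : Type*} {B B' Q V X X' ZJ ZJ' : Subgroup G} {L W Z C A : ι → Subgroup G} {q : ℕ}
    (h : OM.Lev.Uni.FrL B Q V X ZJ L W Z C A q) (e1 : B = B') (e2 : X = X') (e3 : ZJ = ZJ') :
    OM.Lev.Uni.FrL B' Q V X' ZJ' L W Z C A q := by
  subst e1 e2 e3
  exact h

theorem ln (h : MulL S P B ZJ L W Z C A q) : Ln P (nL h.cl) L W Z C A q where
  hyp := h.cl.hypN
  le := le_rfl
  fr := frL_congr h.fr (eqBT h) (show zl (S : Subgroup G) P = zc (nL h.cl).K from h.cl.zc_eq.symm) (eqZT h)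
  two := h.bg.two

theorem lowC (h : MulL S P B ZJ L W Z C A q) (hq : 2 < q) (hL : LowE h) {Y : Subgroup G} (hY : Y ≤ ZJ)
    (hm : Meets Z Y) : LowC h.cl (centralizer (Y : Set G)) := lowC_of h.cl (ln h) hq (hL Y hY hm)

/-- UNI+ for the blocks with module in `V_P` -/
theorem uni_blk (h : MulL S P B ZJ L W Z C A q) (hq : 2 < q) {L' V' : Subgroup G}
    (hb : FBX B (zl (S : Subgroup G) P) L' V') :
    ∃ i, V' = W i ∧ ∀ z ∈ ZJ, z ∈ C i ↔ ∀ l ∈ L', l * z = z * l := by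
  obtain ⟨Z', -, i, -, hN, hV, hc, -⟩ := h.uni hb
  exact ⟨i, NO3S.EMany.FourDQ.V_eq h.bg hq hN hV fun z hz hzC => (hc z hz).1 hzC, hc⟩

/-- **Block generation.** -/
theorem exists_blk (h : MulL S P B ZJ L W Z C A q) (hq : 2 < q) {T R : Subgroup G} (hT : Syl T R) (hB : B ≤ T)
    (hP : IsMinPar T R) (hc : R ⊓ centralizer (o2 R : Set G) ≤ o2 R) (hK : o2 P ≤ o2 R)
    (hn : ¬ nxt (S : Subgroup G) (o2 P) ≤ o2 R) (hZ : ¬ R ≤ centralizer (zc T : Set G)) :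
    ∃ (L' : Subgroup G) (i : Fin k), L' ≤ R ∧ R ≤ L' ⊔ T ∧ FBl B L' (W i) ∧
      ∀ z ∈ ZJ, z ∈ C i ↔ ∀ l ∈ L', l * z = z * l := by
  obtain ⟨L', V', h1, h2, h3, h4⟩ := exists_fblk h.cl (ZT_V h) hT (eqBT h ▸ hB) hP hc hK hn hZ
  have h5 : FBl B L' V' := by
    rw [eqBT h]
    exact ⟨h2.fb, h2.blk⟩
  obtain ⟨i, rfl, h6⟩ := uni_blk h hq ⟨h5, h3⟩
  exact ⟨L', i, h1, h4.trans (sup_comm _ _).le, h5, h6⟩

theorem not_mem_C (h : Bg S P B ZJ L W Z C q) {i : Fin k} {z : G} (hz : z ∈ Z i) (h1 : z ≠ 1) : z ∉ C i := by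
  intro hc
  have h2 : z ∈ W i ⊓ C i := mem_inf.2 ⟨(h.fr.blk i).ZV hz, hc⟩
  rw [h.fr.dir i, mem_bot] at h2
  exact h1 h2

/-- **Generation of `C_G(Y₀)`**, `1 ≠ Y₀ ≤ Z_J`. -/
theorem cent_le (h : MulL S P B ZJ L W Z C A q) (hq : 2 < q) {Y₀ X T : Subgroup G} (hYJ : Y₀ ≤ ZJ) (hYne : Y₀ ≠ ⊥)
    (hT : Syl T (centralizer (Y₀ : Set G))) (hBT : B ≤ T)
    (hX : centralizer (Y₀ : Set G) ⊓ normalizer (ZJ : Set G) ≤ X)
    (hz : ∀ R : Subgroup G, IsMinPar T R → Syl T R → R ⊓ centralizer (o2 R : Set G) ≤ o2 R →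
      R ≤ centralizer (Y₀ : Set G) → (R ≤ centralizer (zc T : Set G) ∨ ¬ o2 P ≤ o2 R) → R ≤ X)
    (hb : ∀ (L' : Subgroup G) (i : Fin k), L' ≤ centralizer (Y₀ : Set G) →
      (∀ z ∈ ZJ, z ∈ C i ↔ ∀ l ∈ L', l * z = z * l) → L' ≤ X) :
    centralizer (Y₀ : Set G) ≤ X := by
  set H : Subgroup G := centralizer (Y₀ : Set G) with hH
  have lb := h.lb
  have hchar : H ⊓ centralizer (o2 H : Set G) ≤ o2 H :=
    OM.Swap.char2_cent h.bg.hyp.ctx.char2 (lb.Bp.to_le (hYJ.trans lb.ZB)) hYne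
  have hTB : T ≤ normalizer (B : Set G) := lb.two_le hT.2.1 hBT
  have hTJ : T ≤ normalizer (ZJ : Set G) := hTB.trans h.bg.norm_ZJ
  refine MinSimple.MinParabolic.le_of_forall hT.1 ?_ fun Y hY hYH => ?_
  · rintro x ⟨hx, hxT⟩
    exact hX ⟨hx, (lb.nrm T hT.2.1 (lb.KB.trans hBT)) hxT⟩
  have hTY : Syl T Y := ⟨hY.le, hT.2.1, fun Q hQ h2 hTQ => hT.2.2 Q (hQ.trans hYH) h2 hTQ⟩
  by_cases hK : nxt (S : Subgroup G) (o2 P) ≤ o2 Y
  · intro x hx
    exact hX ⟨hYH hx, (lb.nrm _ (MinSimple.VModule.o2_isPGroup _) hK)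
      (MinSimple.VModule.le_normalizer_o2 Y hx)⟩
  have hcY : Y ⊓ centralizer (o2 Y : Set G) ≤ o2 Y := by
    have h4 : o2 H ≤ o2 Y :=
      le_o2 (isPGroup_o2 H) ((o2_le_syl hT).trans hY.le) (hYH.trans (le_normalizer_o2 H))
    rintro x ⟨hx, hxc⟩
    exact h4 (hchar ⟨hYH hx, centralizer_le (by exact_mod_cast h4) hxc⟩)
  by_cases hQ : o2 P ≤ o2 Y
  · by_cases hZ : Y ≤ centralizer (zc T : Set G)
    · exact hz Y hY hTY hcY hYH (Or.inl hZ)
    · obtain ⟨L', i, h2, h3, -, h4⟩ := exists_blk h hq hTY hBT hY hcY hQ hK hZ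
      exact h3.trans (sup_le (hb L' i (h2.trans hYH) h4) fun x hx => hX ⟨hT.1 hx, hTJ hx⟩)
  · exact hz Y hY hTY hcY hYH (Or.inr hQ)

/-! ### The frame with coordinates -/

open Cfsg.Agent.Omega.OM.Lev.Nat (Wn Cn)
open Cfsg.Agent.Omega.NO3S.OneLine (NatC)
open Cfsg.Agent.Omega.FrameFF (cv)

/-- **The frame of `MulL` is the frame of `SWT.Dt` up to a permutation.** -/
theorem exists_dt_mul (h : MulL S P B ZJ L W Z C A q) (hk : 2 ≤ k) (hq : 2 < q) :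
    ∃ (F : Type) (_ : Field F) (_ : Finite F) (_ : CharP F 2)
      (M : NatC F (S : Subgroup G) P (zl (S : Subgroup G) P) (cv (S : Subgroup G) P) k)
      (L' Z' A' : Fin k → Subgroup G) (σ : Equiv.Perm (Fin k)), Nat.card F = q ∧
        Dt P (nL h.cl) M L' Z' A' ∧ ∀ i, W i = Wn M (σ i) ∧ Z i = Z' (σ i) := by
  obtain ⟨F, _, _, _, hF, ⟨N⟩⟩ := h.nat
  obtain ⟨M, L', Z', A', -, D⟩ := exists_dt (n := nL h.cl) h.cl.hypN le_rfl (Node.MulG.exists_BO_caseL h.cl) hk N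
  have eB := eqBT h
  have eZ := eqZT h
  have hq' : 2 < Nat.card F := by rw [hF]; exact hq
  have key : ∀ i, ∃ j, W i = Wn M j ∧ Z i = Z' j := by
    intro i
    have h1 := h.fbx i
    rw [eB, ← h.cl.zc_eq] at h1
    obtain ⟨Z'', h2, j, h3, hN, hV, hc, -⟩ := uniX S h.cl.levQ rfl rfl D.ln.fr h1
    refine ⟨j, ?_, ?_⟩
    · exact NO3S.EMany.FourDQ.V_eq D.bg hq' hN hV fun z hz hzC => (hc z hz).1 hzC
    · rw [← h3]
      have h4 := h.bg.fr.blk i
      rw [eB] at h4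
      ext z
      rw [h4.toMd.mem_Z_iff, h2.toMd.mem_Z_iff]
      exact Iff.rfl
  choose σ hσ using key
  have hinj : Function.Injective σ := fun i j e => h.bg.Z_inj (by rw [(hσ i).2, (hσ j).2, e])
  exact ⟨F, inferInstance, inferInstance, inferInstance, M, L', Z', A',
    Equiv.ofBijective σ (Finite.injective_iff_bijective.1 hinj), hF, D, hσ⟩

end Cfsg.Agent.Omega.EK3.QL

end

section


/-!
# The case (L) of GammaFF, natural blocks, `q ≥ 4`, over `MulX.MulL`: (T1) or the K-shape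

* `tOne_of_zc` : (T1) from `C_G(Ω₁(Z(T))) ≤ N_G(Z_J)` for the 2-groups `T ≥ B` normalising every `Z i`, and LL (`LowE`);
* **`tOne_four`** : `q = 4`: (T1), or `C_{Z i}(T*) = ⟨z i⟩` has order 2 for all `i` and `C_G(z 1, .., z k)` does not
  normalise all `Z i`; from `LowE` alone;
* `tiW_of` : the weak `ti` (`C_G(Z_l : l ≠ j) ⊓ C_G(m) ≤ N_G(Z_j)`, `1 ≠ m ∈ Z_j`) from (T1).
-/

set_option autoImplicit false
set_option linter.unusedSectionVars false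

namespace Cfsg.Agent.Omega.EK3.QX

open Subgroup Cfsg Cfsg.Agent.ZN.ChoiceBase
open Cfsg.Agent.ZN (jj zj bau zc zl o2)
open Cfsg.Agent.ZN.ChoiceSit (Syl exists_syl syl_conj)
open Cfsg.Agent.MinSimple.MinParabolic (IsMinPar)
open Cfsg.Agent.Omega.NO3S.EThree.Frame
open Cfsg.Agent.Omega.Node.MulX
open Cfsg.Agent.Omega.EK3.Q

universe u

variable {G : Type u} [Group G] [Finite G] {S : Sylow 2 G} {P B ZJ : Subgroup G} {k : ℕ}
  {L W Z C A : Fin k → Subgroup G} {q : ℕ}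

/-- **(T1)** from `C_G(Ω₁(Z(T))) ≤ N_G(Z_J)`. -/
theorem tOne_of_zc (h : MulL S P B ZJ L W Z C A q) (hq : 2 < q) (hk : 0 < k) (hL : QL.LowE h)
    (hT : ∀ T : Subgroup G, IsPGroup 2 T → B ≤ T → (∀ i, T ≤ normalizer (Z i : Set G)) →
      centralizer (zc T : Set G) ≤ normalizer (ZJ : Set G)) : TOne ZJ Z := by
  intro Y₀ hYJ hYi
  have hYne : Y₀ ≠ ⊥ := by
    rintro rfl
    obtain ⟨z, -, h1, h2⟩ := hYi ⟨0, hk⟩
    exact h1 (mem_bot.1 h2)
  have hBH : B ≤ centralizer (Y₀ : Set G) := by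
    rw [le_centralizer_iff]
    exact hYJ.trans (le_centralizer_iff.1 h.lb.Bc)
  obtain ⟨T, hTs, hBT⟩ := exists_syl h.lb.Bp hBH
  have hTB : T ≤ normalizer (B : Set G) := h.lb.two_le hTs.2.1 hBT
  refine QL.cent_le h hq hYJ hYne hTs hBT inf_le_right ?_ ?_
  · intro R hR hTR hcR hRH hor
    have hz : R ≤ centralizer (zc T : Set G) := by
      rcases hor with h1 | h1
      · exact h1
      · exact QL.lowC h hq hL hYJ hYi T R hTR ((QL.eqBT h) ▸ hBT) hR hcR hRH h1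
    refine hz.trans (hT T hTs.2.1 hBT fun i x hx => ?_)
    obtain ⟨z, hz, h1, h2⟩ := hYi i
    exact fixZ h.bg (h.bg.norm_ZJ (hTB hx)) hz h1 (mem_centralizer_iff.1 (hTs.1 hx) z h2).symm
  · intro L' i hL' hc
    obtain ⟨z, hz, h1, h2⟩ := hYi i
    have h3 : z ∈ C i := (hc z (h.bg.fr.Z_le i hz)).2 fun l hl => (mem_centralizer_iff.1 (hL' hl) z h2).symm
    exact absurd h3 (QL.not_mem_C h.bg hz h1)

/-- **(T1) or the K-shape, `q = 4`**, from LL (`LowE`). -/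
theorem tOne_four (hM : MulL S P B ZJ L W Z C A 4) (hk : 0 < k) (hL : QL.LowE hM) :
    TOne ZJ Z ∨ ∃ z : Fin k → G, HZ S W Z z ∧
      ∃ i, ¬ (⨅ l, centralizer ({z l} : Set G)) ≤ normalizer (Z i : Set G) := by
  classical
  have h := hM.bg
  have hTZ : ∀ t ∈ TStar S W, ∀ l, ∀ v ∈ Z l, t * v * t⁻¹ ∈ Z l := fun t ht l v hv =>
    (mem_normalizer_iff.1 (((mem_TStar h).1 ht).2 l) v).1 hv
  have hT2 : IsPGroup 2 (TStar S W) := S.isPGroup'.to_le inf_le_left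
  by_cases hA : TStar S W ≤ centralizer (ZJ : Set G)
  · -- `T* = B`
    left
    refine tOne_of_zc hM (by norm_num) hk hL fun T hT hBT hi => ?_
    obtain ⟨n, hn, hle⟩ := exists_cj_TS h hT hBT hi
    refine cent_zc_le h hn ?_
    have h1 : cj n T ≤ B := by
      rw [h.eqB]
      exact le_inf (hle.trans inf_le_left) (hle.trans hA)
    have h2 : cj n T = B := le_antisymm h1 (by
      have h3 := cj_mono n hBT
      rwa [cj_eq_of_mem_normalizer hn] at h3)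
    rw [h2, h.fr.zcB]
    exact centralizer_le_normalizer _
  -- some `Z i` is moved
  obtain ⟨i₀, hi₀⟩ : ∃ i, ¬ Z i ≤ centralizer (TStar S W : Set G) := by
    by_contra hcon
    push Not at hcon
    apply hA
    rw [le_centralizer_iff]
    exact (Loc.ZJ_le_iSup h).trans (iSup_le hcon)
  have hcard : ∀ i, Nat.card (Z i) = 4 := h.fr.cardZ
  have hF0 : ∀ i, Z i ⊓ centralizer (TStar S W : Set G) ≠ ⊥ := by
    intro i e
    obtain ⟨v, hv, hv1, hvT⟩ := NO3S.EMany.Four.exists_fix hT2 (h.Z_two i) (h.Z_ne i) fun t ht v hv => hTZ t ht i v hv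
    have : v ∈ Z i ⊓ centralizer (TStar S W : Set G) := ⟨hv, mem_centralizer_iff.2 fun t ht => by
      have h2 := hvT t ht
      calc t * v = t * v * t⁻¹ * t := by group
        _ = v * t := by rw [h2]⟩
    rw [e, mem_bot] at this
    exact hv1 this
  -- `|C_{Z i}(T*)| = 2`
  have hcj : ∀ i, ∃ s ∈ (S : Subgroup G), cj s (Z i₀) = Z i ∧ cj s (TStar S W) = TStar S W := by
    intro i
    obtain ⟨s, hs, e⟩ := h.trans i₀ i
    refine ⟨s, hs, (h.cj_Z_iff hs).2 e, ?_⟩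
    refine Subgroup.eq_of_le_of_card_ge ?_ (by rw [card_cj])
    intro t ht
    have ht' : s⁻¹ * t * s ∈ TStar S W := mem_cj.1 ht
    refine (mem_TStar h).2 ⟨?_, fun l => ?_⟩
    · have h1 := mul_mem (mul_mem hs ((mem_TStar h).1 ht').1) (inv_mem hs)
      have e1 : s * (s⁻¹ * t * s) * s⁻¹ = t := by group
      rwa [e1] at h1
    · obtain ⟨j, hj, -⟩ := (h.nrm s⁻¹ (inv_mem (h.S_norm_B hs))).2 l
      have h1 : Z l = cj s (Z j) := by rw [← hj, cj_cj_inv]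
      rw [h1, ← cj_normalizer, mem_cj]
      exact ((mem_TStar h).1 ht').2 j
  have hlt : ∀ i, Nat.card ↥(Z i ⊓ centralizer (TStar S W : Set G) : Subgroup G) = 2 := by
    intro i
    obtain ⟨s, hs, e1, e2⟩ := hcj i
    have h1 : Z i ⊓ centralizer (TStar S W : Set G) = cj s (Z i₀ ⊓ centralizer (TStar S W : Set G)) := by
      rw [cj_inf, cj_centralizer, e1, e2]
    rw [h1, card_cj]
    have h2 : Nat.card ↥(Z i₀ ⊓ centralizer (TStar S W : Set G) : Subgroup G) ∣ 4 := by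
      rw [← hcard i₀]
      exact Subgroup.card_dvd_of_le inf_le_left
    have h3 : Nat.card ↥(Z i₀ ⊓ centralizer (TStar S W : Set G) : Subgroup G) ≠ 4 := by
      intro e
      have h4 : Z i₀ ⊓ centralizer (TStar S W : Set G) = Z i₀ :=
        Subgroup.eq_of_le_of_card_ge inf_le_left (by rw [e, hcard])
      exact hi₀ (inf_eq_left.1 h4)
    have h5 : Nat.card ↥(Z i₀ ⊓ centralizer (TStar S W : Set G) : Subgroup G) ≠ 1 := fun e =>
      hF0 i₀ (Subgroup.card_eq_one.1 e)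
    have h6 := Nat.le_of_dvd (by norm_num) h2
    have h7 : Nat.card ↥(Z i₀ ⊓ centralizer (TStar S W : Set G) : Subgroup G) ≠ 3 := by
      intro e
      rw [e] at h2
      omega
    have h8 : 0 < Nat.card ↥(Z i₀ ⊓ centralizer (TStar S W : Set G) : Subgroup G) := Nat.card_pos
    omega
  have hex : ∀ i, ∃ z, z ∈ Z i ∧ z ≠ 1 ∧ ∀ w ∈ Z i, (∀ t ∈ TStar S W, t * w = w * t) ↔ (w = 1 ∨ w = z) := by
    intro i
    obtain ⟨z, hz, hz1⟩ : ∃ z ∈ Z i ⊓ centralizer (TStar S W : Set G), z ≠ 1 := by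
      by_contra hcon
      push Not at hcon
      exact hF0 i ((eq_bot_iff_forall _).2 hcon)
    refine ⟨z, hz.1, hz1, fun w hw => ⟨fun hwT => ?_, ?_⟩⟩
    · by_cases hw1 : w = 1
      · exact Or.inl hw1
      · exact Or.inr (OM.UniPlus.eq_of_card_two (hlt i) ⟨hw, mem_centralizer_iff.2 hwT⟩ hz hw1 hz1)
    · rintro (rfl | rfl) t ht
      · rw [mul_one, one_mul]
      · exact mem_centralizer_iff.1 hz.2 t ht
  choose z hz hz1 hzT using hex
  by_cases hD : ∀ i, (⨅ l, centralizer ({z l} : Set G)) ≤ normalizer (Z i : Set G)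
  · left
    refine tOne_of_zc hM (by norm_num) hk hL fun T hT hBT hi => ?_
    obtain ⟨n, hn, hle⟩ := exists_cj_TS h hT hBT hi
    refine cent_zc_le h hn (le_trans ?_ ((le_iInf hD).trans (inf_norm_le h)))
    refine le_iInf fun l => centralizer_le ?_
    rw [Set.singleton_subset_iff]
    refine mem_zc.2 ⟨?_, h.fr.Vsq (h.fr.ZV l (hz l)), fun t ht => (hzT l (z l) (hz l)).2 (Or.inr rfl) t (hle ht)⟩
    have h3 := cj_mono n hBT
    rw [cj_eq_of_mem_normalizer hn] at h3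
    exact h3 ((h.fr.blk l).VB ((h.fr.blk l).ZV (hz l)))
  · right
    push Not at hD
    exact ⟨z, fun i => ⟨hz i, hz1 i, hzT i⟩, hD⟩

/-- **The weak `ti`** from (T1). -/
theorem tiW_of (h : Bg S P B ZJ L W Z C q) (t1 : TOne ZJ Z) (j : Fin k) {m : G} (hm : m ∈ Z j) (h1 : m ≠ 1) :
    YQ Z j ⊓ centralizer ({m} : Set G) ≤ normalizer (Z j : Set G) := by
  set Y₀ : Subgroup G := zpowers m ⊔ ⨆ l : {l : Fin k // l ≠ j}, Z l with hY₀
  have hmY : m ∈ Y₀ := mem_sup_left (mem_zpowers m)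
  have hlY : ∀ l, l ≠ j → Z l ≤ Y₀ := fun l hl =>
    (le_iSup (fun l : {l : Fin k // l ≠ j} => Z l) ⟨l, hl⟩).trans le_sup_right
  have hYJ : Y₀ ≤ ZJ := sup_le (by rw [zpowers_le]; exact h.fr.Z_le j hm) (iSup_le fun l => h.fr.Z_le l)
  have hle : YQ Z j ⊓ centralizer ({m} : Set G) ≤ centralizer (Y₀ : Set G) := by
    rw [le_centralizer_iff, hY₀]
    refine sup_le ?_ (iSup_le fun l => ?_)
    · rw [zpowers_le, mem_centralizer_iff]
      intro x hx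
      exact mem_centralizer_singleton_iff.1 (mem_inf.1 hx).2
    · intro z hz
      exact mem_centralizer_iff.2 fun x hx => mem_YQ.1 (mem_inf.1 hx).1 l l.2 z hz
  have h2 : centralizer (Y₀ : Set G) ≤ normalizer (ZJ : Set G) := by
    refine t1 Y₀ hYJ fun l => ?_
    by_cases hl : l = j
    · subst hl
      exact ⟨m, hm, h1, hmY⟩
    · obtain ⟨v, hv, hv1⟩ : ∃ v ∈ Z l, v ≠ 1 := by
        by_contra hcon
        push Not at hcon
        exact h.Z_ne l ((eq_bot_iff_forall _).2 hcon)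
      exact ⟨v, hv, hv1, hlY l hl hv⟩
  intro x hx
  exact fixZ h (h2 (hle hx)) hm h1 (mem_centralizer_singleton_iff.1 (mem_inf.1 hx).2)

end Cfsg.Agent.Omega.EK3.QX

end

section


/-!
# (4F-K), `q = 4`, over a general top level and over the case (L) of GammaFF: `hp`

`T* = S ⊓ ⨅ N(W l)`, `C_{Z l}(T*) = ⟨z l⟩` of order 2, `D* = ⨅ C_G(z l)`.  If `D*` does not normalise some `Z i`, then
for every `i` some `f ∈ D*` normalises `W i` and not `Z i`.

* `lev_main` : a pair `(T, F)` with all `Z i` normalised by `T` : `F ≤ N(Z i)` or `F ≤ N(W i)`;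
* `hp_of` : over `SWT.Dt`, from the sockets `BM`, `QFix`, `QFam` of `SWT/Base.lean` for `H = D*`, `M = N_G(Z_J)`;
* `uniX`, `exists_dt` : the frame `MulL` is the frame `SWT.Dt` up to a permutation of the indices;
* **`hpX`** : over `MulL .. 4`, from `LowC`, `OffC` (`SWT/CaseLS.lean`) for `H = D*`, `M = N_G(Z_J)`.
-/

set_option autoImplicit false
set_option linter.unusedSectionVars false

namespace Cfsg.Agent.Omega.EK3.QX

open Subgroup Cfsg Cfsg.Agent.ZN.ChoiceBase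
open Cfsg.Agent.ZN (jj zj bau zc zl o2)
open Cfsg.Agent.ZN.ChoiceSit (Syl exists_syl syl_conj le_o2 o2_le_syl isPGroup_o2 le_normalizer_o2)
open Cfsg.Agent.MinSimple.MinParabolic (IsMinPar)
open Cfsg.Agent.Omega.FrameFF (cv)
open Cfsg.Agent.Omega.FFThm (NatKM)
open Cfsg.Agent.Omega.NO3S.OneLine (NatC)
open Cfsg.Agent.Omega.NO3S.EThree.Frame
open Cfsg.Agent.Omega.NO3S.Level (CaseL)
open Cfsg.Agent.Omega.Node.MultiOf Cfsg.Agent.Omega.Node.MulX
open Cfsg.Agent.Omega.OM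
open Cfsg.Agent.Omega.OM.Lev.Nat
open Cfsg.Agent.Omega.OM.SWT (LV ZT BT lb Dt Pair Phi FamF BM QFix QFam nL LowC OffC)
open Cfsg.Agent.Omega.EK3.Q (TStar mem_TStar HZ mem_DD iInf_cent_eq fixZ exists_cj_TS inf_norm_le syl_TStar hp_all
  B_le_TStar)

universe u

variable {G : Type u} [Group G] [Finite G] {S : Sylow 2 G} {P : Subgroup G}

section dt

variable {n : LV S} {k : ℕ} {F : Type} [Field F] [Finite F] [CharP F 2]
  {M : NatC F (S : Subgroup G) P (zl (S : Subgroup G) P) (cv (S : Subgroup G) P) k} {L Z A : Fin k → Subgroup G}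

/-- the claim for one pair -/
theorem lev_main (D : Dt P n M L Z A) {X H T Y : Subgroup G} (hp : Pair P n X H T Y) (hTS : T ≤ (S : Subgroup G))
    (hfam : FamF P n T Y) (hall : ∀ i, i ∈ Phi Z T) (hq : Nat.card F = 4)
    (hD : centralizer (ZT n : Set G) ≤ X) (hN : normalizer (BT n : Set G) ≤ X)
    (i : Fin k) : Y ≤ normalizer (Z i : Set G) ∨ Y ≤ normalizer (Wn M i : Set G) := by
  obtain ⟨z₀, f₀, m⟩ := D.exists_md
  have hZ : ∀ i, ∀ t ∈ T, cj t (Z i) = Z i := fun i t ht => hall i t ht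
  obtain ⟨u, hu, hue, huY⟩ := SWT.CaseFour.exists_u D m hp hTS hZ hq i
  obtain ⟨𝓐, h1⟩ := SWT.CaseFour.oneF D m hp hTS hZ hq hfam hD hN hu hue huY
  have hfix : o2 Y ≤ centralizer (Z i : Set G) → Y ≤ centralizer (Z i : Set G) := by
    intro hi x hx
    refine mem_centralizer_iff.2 fun z hz => ?_
    have h3 : z ∈ centralizer (Y : Set G) :=
      hp.fix ⟨D.ln.fr.Z_le i hz, mem_centralizer_iff.2 fun o ho => (mem_centralizer_iff.1 (hi ho) z hz).symm⟩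
    exact (mem_centralizer_iff.1 h3 x hx).symm
  rcases h1.main hfix with h2 | h2
  · left
    rw [← Dich.oddGen_sup_syl hp.syl]
    exact sup_le (h2.trans (centralizer_le_normalizer _)) fun t ht => mem_normalizer_iff_cj.2 (hZ i t ht)
  · exact Or.inr h2

/-- **`hp`** over `SWT.Dt`. -/
theorem hp_of (D : Dt P n M L Z A) (hF : Nat.card F = 4) {z : Fin k → G} (hz : HZ S (Wn M) Z z)
    (hne : ∃ i, ¬ (⨅ l, centralizer ({z l} : Set G)) ≤ normalizer (Z i : Set G))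
    (hBM : BM n (normalizer (ZT n : Set G)) (⨅ l, centralizer ({z l} : Set G)))
    (hQ : QFix n (normalizer (ZT n : Set G)) (⨅ l, centralizer ({z l} : Set G)))
    (hQF : QFam P n (normalizer (ZT n : Set G)) (⨅ l, centralizer ({z l} : Set G))) :
    ∀ i, ∃ f ∈ (⨅ l, centralizer ({z l} : Set G)),
      f ∈ normalizer (Wn M i : Set G) ∧ f ∉ normalizer (Z i : Set G) := by
  have hbg : Bg S P (BT n) (ZT n) L (Wn M) Z (Cn M) (Nat.card F) := D.bg
  refine hp_all hbg hz ?_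
  obtain ⟨i₀, hne⟩ := hne
  have hDD := iInf_cent_eq z
  set H : Subgroup G := ⨅ l, centralizer ({z l} : Set G) with hH
  have hXJ : centralizer (ZT n : Set G) ≤ normalizer (ZT n : Set G) := centralizer_le_normalizer _
  have hNJ : normalizer (BT n : Set G) ≤ normalizer (ZT n : Set G) := (lb n).norm_B_le
  have hle : (⨆ l, Subgroup.zpowers (z l) : Subgroup G) ≤ ZT n := iSup_le fun l => by
    rw [zpowers_le]; exact hbg.fr.Z_le l (hz l).1
  have hne1 : (⨆ l, Subgroup.zpowers (z l) : Subgroup G) ≠ ⊥ := by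
    intro e
    have h1 : z i₀ ∈ (⨆ l, Subgroup.zpowers (z l) : Subgroup G) :=
      (le_iSup (fun l => Subgroup.zpowers (z l)) i₀) (mem_zpowers _)
    rw [e, mem_bot] at h1
    exact (hz i₀).2.1 h1
  have hch : H ⊓ centralizer (o2 H : Set G) ≤ o2 H := by
    rw [hDD]
    exact Swap.char2_cent hbg.hyp.ctx.char2 ((lb n).Bp.to_le (hle.trans (lb n).ZB)) hne1
  have hBH : BT n ≤ H := by
    rw [hDD, le_centralizer_iff]
    exact hle.trans (le_centralizer_iff.1 (lb n).Bc)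
  have hHM : ¬ H ≤ normalizer (ZT n : Set G) := fun hcon => hne fun x hx =>
    fixZ hbg (hcon hx) (hz i₀).1 (hz i₀).2.1 (mem_DD.1 hx i₀)
  obtain ⟨T', F', hp'⟩ := SWT.exists_pair D.ln hBM hQ hXJ hNJ hBH hch hHM
  -- conjugate into `T*`, inside `D*`
  have hTs : Syl (TStar S (Wn M)) H := syl_TStar hbg hz
  obtain ⟨T₁, hT₁, hTT₁⟩ := exists_syl hp'.syl.2.1 (hp'.syl.1.trans hp'.le)
  obtain ⟨d, hd, hdT⟩ := syl_conj hT₁ hTs
  have hdT' : cj d T' ≤ TStar S (Wn M) := by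
    rw [← hdT]
    exact cj_mono d hTT₁
  have hdB : d ∈ normalizer (BT n : Set G) := mem_normalizer_iff_cj.2
    (SWT.wc n _ S.isPGroup' (lb n).BS _ (((cj_mono d hp'.BT).trans hdT').trans inf_le_left))
  have hdH : cj d H = H := cj_eq_of_mem_normalizer (le_normalizer hd)
  have hp := SWT.pair_cj D.ln hNJ hp' hdB
  rw [hdH] at hp
  have hTS : cj d T' ≤ (S : Subgroup G) := hdT'.trans inf_le_left
  have hTM : cj d T' ≤ normalizer (ZT n : Set G) := ((lb n).two_le hp.syl.2.1 hp.BT).trans hNJ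
  have hall : ∀ i, i ∈ Phi Z (cj d T') := fun i t ht =>
    mem_normalizer_iff_cj.1 (((mem_TStar hbg).1 (hdT' ht)).2 i)
  have hfam : FamF P n (cj d T') (cj d F') := SWT.exists_fam D.ln hp hQF hXJ hTM le_rfl
  -- an index moved by `F`
  obtain ⟨i, hi⟩ : ∃ i, ¬ cj d F' ≤ normalizer (Z i : Set G) := by
    by_contra hcon
    push Not at hcon
    exact hp.nM ((le_iInf hcon).trans (inf_norm_le hbg))
  have h1 : cj d F' ≤ normalizer (Wn M i : Set G) :=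
    (lev_main D hp hTS hfam hall hF hXJ hNJ i).resolve_left hi
  obtain ⟨f, hf, hfn⟩ := SetLike.not_le_iff_exists.1 hi
  exact ⟨i, f, hp.le hf, h1 hf, hfn⟩

end dt

section mulL

variable {B ZJ : Subgroup G} {k : ℕ} {L W Z C A : Fin k → Subgroup G} {q : ℕ}

/-- UNI for the blocks with module in `V_P`, `q > 2` -/
theorem uniX (h : MulL S P B ZJ L W Z C A q) (hq : 2 < q) {L' V' : Subgroup G}
    (hb : FBX B (zl (S : Subgroup G) P) L' V') :
    ∃ i, V' = W i ∧ ∀ z ∈ ZJ, z ∈ C i → ∀ l ∈ L', l * z = z * l := by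
  obtain ⟨Z', -, i, -, hN, hV, hc, -⟩ := h.uni hb
  exact ⟨i, NO3S.EMany.FourDQ.V_eq h.bg hq hN hV fun z hz hzC => (hc z hz).1 hzC, fun z hz hzC => (hc z hz).1 hzC⟩

/-- such a block moves every `z ∈ Z l`, `z ≠ 1`, for some `l`, and centralises `Z_J ⊓ C l` -/
theorem uni0X (h : MulL S P B ZJ L W Z C A q) (hq : 2 < q) {L' V' : Subgroup G}
    (hb : FBX B (zl (S : Subgroup G) P) L' V') :
    ∃ l, (∀ z ∈ Z l, z ≠ 1 → ∃ x ∈ L', x * z ≠ z * x) ∧ ∀ z ∈ ZJ, z ∈ C l → ∀ x ∈ L', x * z = z * x := by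
  obtain ⟨i, rfl, hc⟩ := uniX h hq hb
  obtain ⟨⟨⟨Z', q', hF⟩, -⟩, -⟩ := hb
  refine ⟨i, fun z hz h1 => ?_, hc⟩
  have hZ' : Z' = Z i := by
    ext x
    rw [hF.toMd.mem_Z_iff, (h.bg.fr.blk i).toMd.mem_Z_iff]
  subst hZ'
  have hq' : q' = q := by
    have e1 := hF.card
    rw [(h.bg.fr.blk i).card] at e1
    exact (Nat.eq_of_mul_eq_mul_left Nat.card_pos e1).symm
  subst hq'
  obtain ⟨x, hx, hne, -⟩ := hF.exists_mv
  refine ⟨x, hx, fun hc => h1 ?_⟩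
  have h2 : z ∈ cj x (Z i) ⊓ Z i := by
    refine mem_inf.2 ⟨⟨z, hz, ?_⟩, hz⟩
    show x * z * x⁻¹ = z
    rw [hc]; group
  rwa [hF.nat_tri (h.bg.fr.cardZ i) hx hne, mem_bot] at h2

/-- **the frame `MulL` is the frame `SWT.Dt`** -/
theorem exists_dtX (h : MulL S P B ZJ L W Z C A q) (hk : 2 ≤ k) (hq : 2 < q) :
    ∃ (F : Type) (_ : Field F) (_ : Finite F) (_ : CharP F 2)
      (M : NatC F (S : Subgroup G) P (zl (S : Subgroup G) P) (cv (S : Subgroup G) P) k)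
      (L' Z' A' : Fin k → Subgroup G) (σ : Equiv.Perm (Fin k)), Nat.card F = q ∧ Dt P (nL h.cl) M L' Z' A' ∧
        ∀ i, W i = Wn M (σ i) ∧ Z i = Z' (σ i) := by
  obtain ⟨F, _, _, _, hF, ⟨N⟩⟩ := h.nat
  obtain ⟨M, L', Z', A', -, D⟩ := SWT.exists_dt h.cl.hypN (n := nL h.cl) le_rfl (Node.MulG.exists_BO_caseL h.cl) hk N
  have eB : B = BT (nL h.cl) := h.eqB
  have key : ∀ i, ∃ j, Wn M i = W j ∧ Z' i = Z j := by
    intro i
    have hb : FBX B (zl (S : Subgroup G) P) (L' i) (Wn M i) := by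
      rw [eB]
      exact ⟨⟨⟨_, _, D.bg.fr.blk i⟩, D.bg.block i⟩, fun v hv => hv.1⟩
    obtain ⟨j, e, -⟩ := uniX h hq hb
    refine ⟨j, e, ?_⟩
    ext x
    rw [(D.bg.fr.blk i).toMd.mem_Z_iff, (h.bg.fr.blk j).toMd.mem_Z_iff, e, ← eB]
  choose τ hτ using key
  have hτi : Function.Injective τ := fun i j e => by
    have h1 : Wn M i = Wn M j := by rw [(hτ i).1, (hτ j).1, e]
    exact D.bg.W_inj h1
  refine ⟨F, inferInstance, inferInstance, inferInstance, M, L', Z', A',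
    (Equiv.ofBijective τ (Finite.injective_iff_bijective.1 hτi)).symm, hF, D, fun i => ?_⟩
  set σ := Equiv.ofBijective τ (Finite.injective_iff_bijective.1 hτi) with hσ
  have e : τ (σ.symm i) = i := σ.apply_symm_apply i
  constructor
  · rw [(hτ _).1, e]
  · rw [(hτ _).2, e]

/-- **`hp`** over `MulL`. -/
theorem hpX (h : MulL S P B ZJ L W Z C A 4) (hk : 2 ≤ k) {z : Fin k → G} (hz : HZ S W Z z)
    (hne : ∃ i, ¬ (⨅ l, centralizer ({z l} : Set G)) ≤ normalizer (Z i : Set G))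
    (hL : LowC h.cl (⨅ l, centralizer ({z l} : Set G)))
    (hO : OffC h.cl (normalizer (ZJ : Set G)) (⨅ l, centralizer ({z l} : Set G))) :
    ∀ i, ∃ f ∈ (⨅ l, centralizer ({z l} : Set G)),
      f ∈ normalizer (W i : Set G) ∧ f ∉ normalizer (Z i : Set G) := by
  obtain ⟨F, _, _, _, M, L', Z', A', σ, hF, D, hσ⟩ := exists_dtX h hk (by norm_num)
  have eB : B = BT (nL h.cl) := h.eqB
  have eZ : ZJ = ZT (nL h.cl) := h.eZ
  have hZV : ZT (nL h.cl) ≤ zl (S : Subgroup G) P := eZ ▸ h.fr.ZJV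
  set z' : Fin k → G := fun l => z (σ.symm l) with hz'
  have eD : (⨅ l, centralizer ({z' l} : Set G)) = ⨅ l, centralizer ({z l} : Set G) :=
    σ.symm.iInf_comp (g := fun l => centralizer ({z l} : Set G))
  have eT : ((S : Subgroup G) ⊓ ⨅ l, normalizer (Wn M l : Set G)) =
      (S : Subgroup G) ⊓ ⨅ l, normalizer (W l : Set G) := by
    congr 1
    rw [← σ.iInf_comp (g := fun l => normalizer (Wn M l : Set G))]
    exact iInf_congr fun l => by rw [(hσ l).1]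
  have hzD : HZ S (Wn M) Z' z' := by
    intro i
    have h1 := hz (σ.symm i)
    rw [(hσ _).2, Equiv.apply_symm_apply, ← eT] at h1
    exact h1
  have hneD : ∃ i, ¬ (⨅ l, centralizer ({z' l} : Set G)) ≤ normalizer (Z' i : Set G) := by
    obtain ⟨i, hi⟩ := hne
    exact ⟨σ i, by rwa [eD, ← (hσ i).2]⟩
  have hres := hp_of D hF hzD hneD ?_ ?_ ?_
  · intro i
    obtain ⟨f, h1, h2, h3⟩ := hres (σ i)
    rw [eD] at h1
    rw [← (hσ i).1] at h2
    rw [← (hσ i).2] at h3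
    exact ⟨f, h1, h2, h3⟩
  · -- `BM`
    rw [eD]
    intro T Y hT hBT hmin hc hYH hn hZ
    exfalso
    have hK : o2 P ≤ o2 Y := by
      by_contra hK
      exact hZ (hL T Y hT hBT hmin hc hYH hK)
    obtain ⟨L₁, V₁, hL₁, hb, -⟩ := Node.MulXTwo.exists_fbx h hT (eB ▸ hBT) hmin hc hK hn hZ
    obtain ⟨l, hno, -⟩ := uni0X h (by norm_num) hb
    obtain ⟨x, hx, hne'⟩ := hno (z l) (hz l).1 (hz l).2.1
    exact hne' (mem_DD.1 (hYH (hL₁ hx)) l)
  · rw [eD]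
    exact SWT.qfix_of h.cl hZV (eZ ▸ hO)
  · rw [eD]
    exact SWT.qfam_of h.cl le_rfl hL (eZ ▸ hO)

end mulL

end Cfsg.Agent.Omega.EK3.QX

end

section


/-!
# (T1) over `MulX.MulL`, `q > 2`

* `tOne_ne` : `q ≠ 4`: (T1) from LowE, OffE (pairs of `SWT/Base.lean` in `C_G(C₀)`, `C₀ ≤ Z_J` maximal with
  `C_G(C₀) ≰ N_G(Z_J)`, `Dt.case_two`);
* `tOne_of` : (T1) from `C_G(Ω₁(Z(T))) ≤ N_G(Z_J)` for the 2-groups `T ≥ B` normalising every `Z i`.
-/

set_option autoImplicit false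
set_option linter.unusedSectionVars false

namespace Cfsg.Agent.Omega.EK3.QL

open Subgroup Cfsg Cfsg.Agent.ZN.ChoiceBase
open Cfsg.Agent.ZN (jj zj bau zc zl o2)
open Cfsg.Agent.ZN.ChoiceSit (Syl exists_syl syl_conj le_o2 o2_le_syl isPGroup_o2 le_normalizer_o2)
open Cfsg.Agent.MinSimple.MinParabolic (IsMinPar)
open Cfsg.Agent.Omega.NO3S.EThree.Frame (Bg)
open Cfsg.Agent.Omega.FrameFF (cv)
open Cfsg.Agent.Omega.NO3S.OneLine (NatC)
open Cfsg.Agent.Omega.OM.Lev.Nat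
open Cfsg.Agent.Omega.Node.MultiOf (FBl)
open Cfsg.Agent.Omega.Node.MulX
open Cfsg.Agent.Omega.OM
open Cfsg.Agent.Omega.OM.SWT (LV ZT BT lb Ln Dt Pair Phi FamF BM QFix QFam nL LowC OffC)
open Cfsg.Agent.Omega.EK3.Q (fixZ TOne)

universe u

variable {G : Type u} [Group G] [Finite G] {S : Sylow 2 G} {P B ZJ : Subgroup G} {k : ℕ}
  {L W Z C A : Fin k → Subgroup G} {q : ℕ}

theorem Meets.mono {Z : Fin k → Subgroup G} {Y Y' : Subgroup G} (h : Meets Z Y) (hle : Y ≤ Y') : Meets Z Y' := fun i => by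
  obtain ⟨z, h1, h2, h3⟩ := h i
  exact ⟨z, h1, h2, hle h3⟩

theorem Meets.ne {Z : Fin k → Subgroup G} {Y : Subgroup G} (hk : 0 < k) (h : Meets Z Y) : Y ≠ ⊥ := by
  rintro rfl
  obtain ⟨z, -, h1, h2⟩ := h ⟨0, hk⟩
  exact h1 (mem_bot.1 h2)

/-- conjugation by `N_G(B)` -/
theorem Meets.conj (h : Bg S P B ZJ L W Z C q) {Y : Subgroup G} (hm : Meets Z Y) {n : G}
    (hn : n ∈ normalizer (B : Set G)) : Meets Z (cj n Y) := by
  intro l
  obtain ⟨j, hj, -⟩ := (h.nrm n⁻¹ (inv_mem hn)).2 l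
  have hj' : cj n (Z j) = Z l := by rw [← hj, cj_cj_inv]
  obtain ⟨z, h1, h2, h3⟩ := hm j
  refine ⟨n * z * n⁻¹, hj' ▸ ⟨z, h1, rfl⟩, fun e => h2 ?_, ⟨z, h3, rfl⟩⟩
  have e1 : z = n⁻¹ * (n * z * n⁻¹) * n := by group
  rw [e1, e]; group

/-- Minimal parabolics `Y` in the centraliser of a `Y₀` meeting all `Z l` which move `Ω₁Z(T)`: none, given LL. -/
theorem cent_zc (h : MulL S P B ZJ L W Z C A q) (hq : 2 < q) {Y₀ : Subgroup G} (hm : Meets Z Y₀)
    (hL : LowC h.cl (centralizer (Y₀ : Set G))) {T R : Subgroup G} (hT : Syl T R) (hB : B ≤ T) (hP : IsMinPar T R)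
    (hc : R ⊓ centralizer (o2 R : Set G) ≤ o2 R) (hR : R ≤ centralizer (Y₀ : Set G))
    (hn : ¬ NO3S.Level.nxt (S : Subgroup G) (o2 P) ≤ o2 R) : R ≤ centralizer (zc T : Set G) := by
  by_contra hZ
  have hK : o2 P ≤ o2 R := by
    by_contra hK
    exact hZ (hL T R hT (eqBT h ▸ hB) hP hc hR hK)
  obtain ⟨L', i, h1, -, -, h4⟩ := exists_blk h hq hT hB hP hc hK hn hZ
  obtain ⟨z, hz, hz1, hzY⟩ := hm i
  refine not_mem_C h.bg hz hz1 ((h4 z (h.bg.fr.Z_le i hz)).2 fun l hl => ?_)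
  exact (mem_centralizer_iff.1 (hR (h1 hl)) z hzY).symm

/-- a 2-group over `B` centralising some `Y₀ ≤ Z_J` meeting all `Z l` normalises all `Z l`. -/
theorem norm_of_meets (h : Bg S P B ZJ L W Z C q) {Y₀ T : Subgroup G} (hm : Meets Z Y₀) (hT : IsPGroup 2 T)
    (hB : B ≤ T) (hc : T ≤ centralizer (Y₀ : Set G)) (i : Fin k) : T ≤ normalizer (Z i : Set G) := by
  intro t ht
  obtain ⟨z, hz, hz1, hzY⟩ := hm i
  exact fixZ h (h.norm_ZJ (h.le_norm_B hT hB ht)) hz hz1 (mem_centralizer_iff.1 (hc ht) z hzY).symm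

/-- **(T1), `q ≠ 4`.** -/
theorem tOne_ne (h : MulL S P B ZJ L W Z C A q) (hk : 2 ≤ k) (hq : 2 < q) (hq4 : q ≠ 4) (hL : LowE h)
    (hO : OffE h) : TOne ZJ Z := by
  classical
  intro Y₀ hYJ hYm
  by_contra hcon
  have hYm' : Meets Z Y₀ := hYm
  obtain ⟨F, _, _, _, M, L', Z', A', σ, hF, D, hσ⟩ := QX.exists_dtX h hk hq
  have eB := eqBT h
  have eZ := eqZT h
  have hZV := ZT_V h
  have hbg := h.bg
  set X : Subgroup G := normalizer (ZJ : Set G) with hX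
  have hXJ : centralizer (ZT (nL h.cl) : Set G) ≤ X := by rw [← eZ]; exact centralizer_le_normalizer _
  have hNJ : normalizer (BT (nL h.cl) : Set G) ≤ X := by rw [← eB]; exact hbg.norm_ZJ
  have hXn : X = normalizer (ZT (nL h.cl) : Set G) := by rw [hX, ← eZ]
  -- the maximal `C₀`
  obtain ⟨C₀, hC⟩ := (Set.toFinite {Y : Subgroup G | Y ≤ ZJ ∧ Y₀ ≤ Y ∧ ¬ centralizer (Y : Set G) ≤ X}).exists_maximal
    ⟨Y₀, hYJ, le_rfl, hcon⟩
  obtain ⟨h1, h2, h3⟩ := hC.prop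
  have hmax : ∀ Y : Subgroup G, Y ≤ ZJ → C₀ < Y → centralizer (Y : Set G) ≤ X := by
    intro Y hY hlt
    by_contra hcon
    exact hlt.not_ge (hC.le_of_ge ⟨hY, h2.trans hlt.le, hcon⟩ hlt.le)
  have hC0m : Meets Z C₀ := hYm'.mono h2
  have hC1 : C₀ ≠ ⊥ := hC0m.ne (by omega)
  have hBH : BT (nL h.cl) ≤ centralizer (C₀ : Set G) :=
    (lb (nL h.cl)).Bc.trans (centralizer_le (by rw [← eZ]; exact_mod_cast h1))
  have hsock : ∀ Y : Subgroup G, Y ≤ ZJ → Meets Z Y → BM (nL h.cl) X (centralizer (Y : Set G)) ∧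
      QFix (nL h.cl) X (centralizer (Y : Set G)) ∧ QFam P (nL h.cl) X (centralizer (Y : Set G)) := by
    intro Y hY hm
    have hLY : LowC h.cl (centralizer (Y : Set G)) := lowC h hq hL hY hm
    refine ⟨?_, SWT.qfix_of h.cl hZV (hO Y hY hm), SWT.qfam_of h.cl hXn.ge hLY (hO Y hY hm)⟩
    intro T R hT hB hP hc hR hn hZ
    exact absurd (cent_zc h hq hm hLY hT (eB ▸ hB) hP hc hR hn) hZ
  obtain ⟨T, R, hp⟩ := SWT.exists_pair D.ln (hsock C₀ h1 hC0m).1 (hsock C₀ h1 hC0m).2.1 hXJ hNJ hBH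
    (Swap.char2_cent hbg.hyp.ctx.char2 (h.lb.Bp.to_le (h1.trans h.lb.ZB)) hC1) h3
  -- `C_{Z_J}(T) = C₀`
  have hTC : ZT (nL h.cl) ⊓ centralizer (T : Set G) = C₀ := by
    have h4 : C₀ ≤ ZT (nL h.cl) ⊓ centralizer (T : Set G) :=
      le_inf (eZ ▸ h1) (le_centralizer_iff.1 (hp.syl.1.trans hp.le))
    by_contra hne
    apply hp.nM
    refine le_trans ?_ (hmax _ (eZ ▸ inf_le_left) (lt_of_le_of_ne h4 (Ne.symm hne)))
    rw [le_centralizer_iff]
    exact fun x hx => hp.fix ⟨hx.1, centralizer_le (by exact_mod_cast o2_le_syl hp.syl) hx.2⟩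
  -- conjugate into `S`
  have hsyl : Syl (S : Subgroup G) (normalizer (BT (nL h.cl) : Set G)) :=
    ZN.CaseTwo.syl_of_sylow S ((lb (nL h.cl)).two_le S.isPGroup' D.BS)
  obtain ⟨T₁, hT₁, hTT₁⟩ := exists_syl hp.syl.2.1 ((lb (nL h.cl)).two_le hp.syl.2.1 hp.BT)
  obtain ⟨m, hm, hmS⟩ := syl_conj hT₁ hsyl
  have hTS : cj m T ≤ (S : Subgroup G) := by
    rw [← hmS]
    exact cj_mono m hTT₁
  have hJ := cj_eq_of_mem_normalizer ((lb (nL h.cl)).norm_B_le hm)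
  have hJ' := cj_eq_of_mem_normalizer ((lb (nL h.cl)).norm_B_le (inv_mem hm))
  have hXc : cj m X = X := cj_eq_of_mem_normalizer (le_normalizer (hNJ hm))
  have hmB : m ∈ normalizer (B : Set G) := eB ▸ hm
  set C₁ : Subgroup G := cj m C₀ with hC₁
  have hC1J : C₁ ≤ ZJ := by
    have := cj_mono m h1
    rwa [eZ, hJ, ← eZ] at this
  have hC1m : Meets Z C₁ := hC0m.conj hbg hmB
  have hTC' : ZT (nL h.cl) ⊓ centralizer ((cj m T : Subgroup G) : Set G) = C₁ := by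
    rw [hC₁, ← hTC, cj_inf, cj_centralizer, hJ]
  have hp' : Pair P (nL h.cl) X (centralizer (C₁ : Set G)) (cj m T) (cj m R) := by
    have := SWT.pair_cj D.ln hNJ hp hm
    rwa [cj_centralizer] at this
  have hTM : cj m T ≤ X := ((lb (nL h.cl)).two_le hp'.syl.2.1 hp'.BT).trans hNJ
  have hfam := SWT.exists_fam D.ln hp' (hsock C₁ hC1J hC1m).2.2 hXJ hTM hXn.ge
  refine D.case_two hp' hTS hfam (fun Y hY hlt => ?_) hXJ hNJ (fun i t ht => ?_) (by rw [hF]; exact hq4)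
  · rw [hTC'] at hlt
    have h4 := hmax (cj m⁻¹ Y) (by
      have := cj_mono m⁻¹ hY
      rw [hJ'] at this
      rwa [eZ]) (lt_of_le_of_ne (by
        have := cj_mono m⁻¹ hlt.le
        rwa [hC₁, cj_inv_cj] at this) fun e => hlt.ne (by rw [hC₁, e, cj_cj_inv]))
    have h5 := cj_mono m h4
    rwa [hXc, cj_centralizer, cj_cj_inv] at h5
  · have h4 := norm_of_meets hbg hC1m hp'.syl.2.1 (eB ▸ hp'.BT) (hp'.syl.1.trans hp'.le) (σ.symm i) ht
    rw [(hσ _).2, Equiv.apply_symm_apply] at h4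
    exact mem_normalizer_iff_cj.1 h4

/-- **(T1)** from `C_G(Ω₁(Z(T))) ≤ N_G(Z_J)`. -/
theorem tOne_of (h : MulL S P B ZJ L W Z C A q) (hk : 2 ≤ k) (hq : 2 < q) (hL : LowE h)
    (hT : ∀ T : Subgroup G, IsPGroup 2 T → B ≤ T → (∀ i, T ≤ normalizer (Z i : Set G)) →
      centralizer (zc T : Set G) ≤ normalizer (ZJ : Set G)) : TOne ZJ Z := by
  intro Y₀ hYJ hYi
  have hYm : Meets Z Y₀ := hYi
  have hLY : LowC h.cl (centralizer (Y₀ : Set G)) := lowC h hq hL hYJ hYm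
  have hBH : B ≤ centralizer (Y₀ : Set G) := h.lb.Bc.trans (centralizer_le (by exact_mod_cast hYJ))
  obtain ⟨T, hTs, hBT⟩ := exists_syl h.lb.Bp hBH
  have hTz := hT T hTs.2.1 hBT (norm_of_meets h.bg hYm hTs.2.1 hBT hTs.1)
  refine cent_le h hq hYJ (hYm.ne (by omega)) hTs hBT inf_le_right ?_ ?_
  · intro R hR hRT hc hRY hor
    refine le_trans ?_ hTz
    rcases hor with h1 | h1
    · exact h1
    · exact hLY T R hRT (eqBT h ▸ hBT) hR hc hRY h1
  · intro L' i hL' hc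
    obtain ⟨z, hz, hz1, hzY⟩ := hYm i
    refine absurd ((hc z (h.bg.fr.Z_le i hz)).2 fun l hl => ?_) (not_mem_C h.bg hz hz1)
    exact (mem_centralizer_iff.1 (hL' hl) z hzY).symm

end Cfsg.Agent.Omega.EK3.QL

end
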