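import Cfsg.Agent.Mrg.Omega.CaseLQ.Inst
import Cfsg.Agent.Mrg.Omega.CaseLQ.Crd
import Cfsg.Agent.Mrg.Omega.CaseLQ.NoWEnd
import Cfsg.Agent.Mrg.Omega.EK3.QL.Four


/-!
# `NoW4` over `MulX.MulL`, `q = 4`, `k ≥ 2`

* `cent_le_iSup` : `C_{Z_J}(T) = ∏ C_{Z l}(T)` for `T ≤ S` normalising all `W l`;
* **`noW4`** : no weird `R ≤ C_G(z_l : l ≠ j)` over `T*` which moves `z_j` (`CaseLQ.noW_core'`).
-/

set_option autoImplicit false
set_option linter.unusedSectionVars false

namespace Cfsg.Agent.Omega.EK3.QL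

open Subgroup Cfsg Cfsg.Agent.ZN.ChoiceBase
open Cfsg.Agent.ZN (jj zj bau zc zl o2)
open Cfsg.Agent.ZN.ChoiceSit (Syl)
open Cfsg.Agent.MinSimple.MinParabolic (IsMinPar)
open Cfsg.Agent.Omega.NO3S.EThree.Frame (Bg)
open Cfsg.Agent.Omega.Node.MulX
open Cfsg.Agent.Omega.EK3.FK (TT DD YY mem_YY)
open Cfsg.Agent.Omega.EK3.Q (TStar mem_TStar HZ fixZ B_le_TStar exists_cj_TS)

universe u

variable {G : Type u} [Group G] [Finite G] {S : Sylow 2 G} {P B ZJ : Subgroup G} {k : ℕ}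
  {L W Z C A : Fin k → Subgroup G} {q : ℕ}

/-- **`C_{Z_J}(T) = ∏ C_{Z l}(T)`** -/
theorem cent_le_iSup (h : Bg S P B ZJ L W Z C q) {T : Subgroup G} (hTS : T ≤ (S : Subgroup G))
    (hTW : ∀ l, T ≤ normalizer (W l : Set G)) :
    ZJ ⊓ centralizer (T : Set G) ≤ ⨆ l, Z l ⊓ centralizer (T : Set G) := by
  classical
  have hSP : (S : Subgroup G) ≤ P := h.hyp.toHyp.star.le
  have hTC : ∀ t ∈ T, ∀ l, ∀ c ∈ C l, t * c * t⁻¹ ∈ C l := by
    intro t ht l c hc
    obtain ⟨σ, hσ⟩ := h.perm t (hSP (hTS ht))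
    have h1 : σ l = l := h.W_inj (by rw [← (hσ l).1]; exact mem_normalizer_iff_cj.1 (hTW l ht))
    have h2 := (hσ l).2
    rw [h1] at h2
    rw [← h2]
    exact ⟨c, hc, rfl⟩
  have hTZ : ∀ t ∈ T, ∀ l, ∀ z ∈ Z l, t * z * t⁻¹ ∈ Z l := by
    intro t ht l z hz
    have h1 : t ∈ normalizer (Z l : Set G) := ((h.inf_normalizer l).ge ⟨hTS ht, hTW l ht⟩).2
    exact (mem_normalizer_iff.1 h1 z).1 hz
  have key : ∀ s : Finset (Fin k), ∀ y ∈ ZJ ⊓ centralizer (T : Set G),
      ∃ w ∈ (⨆ l, Z l ⊓ centralizer (T : Set G) : Subgroup G), w⁻¹ * y ∈ ZJ ⊓ centralizer (T : Set G) ∧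
        ∀ l ∈ s, w⁻¹ * y ∈ C l := by
    intro s
    induction s using Finset.induction_on with
    | empty => exact fun y hy => ⟨1, one_mem _, by simpa using hy, fun l hl => absurd hl (Finset.notMem_empty l)⟩
    | insert a s ha ih =>
      intro y hy
      obtain ⟨w, hw, hy', hws⟩ := ih y hy
      obtain ⟨v, hv, c, hc, hcJ, e⟩ := h.fr.split_ZJ a hy'.1
      have hvJ : v ∈ ZJ := h.fr.Z_le a hv
      -- `v` is centralised by `T`
      have hvT : v ∈ centralizer (T : Set G) := by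
        refine mem_centralizer_iff.2 fun t ht => ?_
        have h1 : t * (v * c) = v * c * t := by rw [← e]; exact mem_centralizer_iff.1 hy'.2 t ht
        have h2 : v⁻¹ * (t * v * t⁻¹) ∈ W a ⊓ C a := by
          refine mem_inf.2 ⟨(h.fr.blk a).ZV (mul_mem (inv_mem hv) (hTZ t ht a v hv)), ?_⟩
          have h3 : v⁻¹ * (t * v * t⁻¹) = c * (t * c * t⁻¹)⁻¹ := by
            have h4 : v * c * (t * c * t⁻¹)⁻¹ = t * v * t⁻¹ := by
              calc v * c * (t * c * t⁻¹)⁻¹ = v * c * t * c⁻¹ * t⁻¹ := by group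
                _ = t * (v * c) * c⁻¹ * t⁻¹ := by rw [h1]
                _ = t * v * t⁻¹ := by group
            rw [← h4]; group
          rw [h3]
          exact mul_mem hc (inv_mem (hTC t ht a c hc))
        rw [h.fr.dir a, mem_bot] at h2
        have h3 : t * v * t⁻¹ = v := (inv_mul_eq_one.1 h2).symm
        calc t * v = t * v * t⁻¹ * t := by group
          _ = v * t := by rw [h3]
      have e1 : (w * v)⁻¹ * y = c := by
        calc (w * v)⁻¹ * y = v⁻¹ * (w⁻¹ * y) := by group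
          _ = c := by rw [e]; group
      refine ⟨w * v, mul_mem hw ((le_iSup (fun l => Z l ⊓ centralizer (T : Set G)) a) ⟨hv, hvT⟩), ?_, ?_⟩
      · rw [e1]
        have e2 : c = v⁻¹ * (w⁻¹ * y) := by rw [e]; group
        rw [e2]
        exact mul_mem (inv_mem (mem_inf.2 ⟨hvJ, hvT⟩)) hy'
      · intro l hl
        rw [e1]
        rcases Finset.mem_insert.1 hl with rfl | hl
        · exact hc
        · have hla : l ≠ a := fun e3 => ha (e3 ▸ hl)
          have e2 : c = v⁻¹ * (w⁻¹ * y) := by rw [e]; group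
          rw [e2]
          exact mul_mem (inv_mem (h.fr.WjC l a hla ((h.fr.blk a).ZV hv))) (hws l hl)
  intro y hy
  obtain ⟨w, hw, hy', hws⟩ := key Finset.univ y hy
  have h1 : w⁻¹ * y = 1 := h.fr.C0 _ (h.fr.ZJV hy'.1) fun l => hws l (Finset.mem_univ l)
  have h2 : y = w := (inv_mul_eq_one.1 h1).symm
  rw [h2]
  exact hw

section four

variable {z : Fin k → G} (h : MulL S P B ZJ L W Z C A 4) (hz : HZ S W Z z)
include h hz

/-- `⟨z_l : l ≠ j⟩` -/
abbrev Lz {G : Type u} [Group G] {k : ℕ} (z : Fin k → G) (j : Fin k) : Subgroup G :=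
  ⨆ l : {l : Fin k // l ≠ j}, zpowers (z l)

omit h hz [Finite G] in
theorem cent_Lz (z : Fin k → G) (j : Fin k) : centralizer (Lz z j : Set G) = YY z j := by
  ext x
  rw [mem_YY]
  constructor
  · intro hx l hl
    have h1 : z l ∈ Lz z j := (le_iSup (fun l : {l : Fin k // l ≠ j} => zpowers (z l)) ⟨l, hl⟩) (mem_zpowers _)
    exact (mem_centralizer_iff.1 hx _ h1).symm
  · intro hx
    have h1 : Lz z j ≤ centralizer ({x} : Set G) := iSup_le fun l => by
      rw [zpowers_le, mem_centralizer_singleton_iff]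
      exact (hx l l.2).symm
    exact mem_centralizer_iff.2 fun y hy => mem_centralizer_singleton_iff.1 (h1 hy)

theorem Lz_le (j : Fin k) : Lz z j ≤ ⨆ l : {l : Fin k // l ≠ j}, Z l :=
  iSup_mono fun l => by rw [zpowers_le]; exact (hz l).1

theorem zc_le (j : Fin k) : zc (TT S W) ≤ Z j ⊔ Lz z j := by
  have hbg := h.bg
  have hTS : TT S W ≤ (S : Subgroup G) := inf_le_left
  have h1 : zc (TT S W) ≤ ZJ := CaseLQ.Tj.zc_le_ZJ hbg (B_le_TStar hbg) hTS
  have h2 : zc (TT S W) ≤ ZJ ⊓ centralizer (TT S W : Set G) := le_inf h1 fun x hx =>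
    mem_centralizer_iff.2 fun t ht => (mem_zc.1 hx).2.2 t ht
  refine (h2.trans (cent_le_iSup hbg hTS fun l => inf_le_right.trans (iInf_le _ l))).trans (iSup_le fun l => ?_)
  by_cases hl : l = j
  · subst hl
    exact inf_le_left.trans le_sup_left
  · rintro x ⟨hx, hxc⟩
    rcases ((hz l).2.2 x hx).1 (fun t ht => mem_centralizer_iff.1 hxc t ht) with rfl | rfl
    · exact one_mem _
    · exact mem_sup_right ((le_iSup (fun l : {l : Fin k // l ≠ j} => zpowers (z l)) ⟨l, hl⟩) (mem_zpowers _))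

/-- `T*` is Sylow in `C_G(z_l : l ≠ j)` -/
theorem syl_TT (j : Fin k) : Syl (TT S W) (YY z j) := by
  have hbg := h.bg
  have hT2 : IsPGroup 2 (TT S W) := S.isPGroup'.to_le inf_le_left
  have hTY : TT S W ≤ YY z j := fun t ht => mem_YY.2 fun l _ => ((hz l).2.2 (z l) (hz l).1).2 (Or.inr rfl) t ht
  refine ⟨hTY, hT2, fun T hT h2 hle => ?_⟩
  have hBT : B ≤ T := (B_le_TStar hbg).trans hle
  have hTN : T ≤ normalizer (B : Set G) := hbg.le_norm_B h2 hBT
  have h1 : ∀ l, l ≠ j → T ≤ normalizer (Z l : Set G) := fun l hl x hx =>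
    fixZ hbg (hbg.norm_ZJ (hTN hx)) (hz l).1 (hz l).2.1 (mem_YY.1 (hT hx) l hl)
  obtain ⟨n, -, hn⟩ := exists_cj_TS hbg h2 hBT fun i x hx => by
    by_cases hi : i = j
    · subst hi
      obtain ⟨m, hm, -⟩ := (hbg.nrm x (hTN hx)).2 i
      have h3 : m = i := by
        by_contra hne
        have h4 : cj x (Z m) = Z m := mem_normalizer_iff_cj.1 (h1 m hne hx)
        have h5 : Z i = Z m := by
          have h6 : cj x⁻¹ (cj x (Z i)) = cj x⁻¹ (cj x (Z m)) := by rw [hm, h4]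
          rwa [cj_inv_cj, cj_inv_cj] at h6
        exact hne (hbg.Z_inj h5).symm
      rw [h3] at hm
      exact mem_normalizer_iff_cj.2 hm
    · exact h1 i hi hx
  exact (Subgroup.eq_of_le_of_card_ge hle (by rw [← card_cj n T]; exact Subgroup.card_le_of_le hn)).symm

/-- **`NoW4`** -/
theorem noW4 : NoW4 S P W z := by
  intro j R hR hRs hRY hc hmv
  by_contra nQ
  have hbg := h.bg
  have hTS : TT S W ≤ (S : Subgroup G) := inf_le_left
  have hBT : B ≤ TT S W := B_le_TStar hbg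
  have hTZ : TT S W ≤ normalizer (Z j : Set G) := fun t ht => ((mem_TStar hbg).1 ht).2 j
  have hTz : ∀ l, ∀ t ∈ TT S W, t * z l = z l * t := fun l t ht => ((hz l).2.2 (z l) (hz l).1).2 (Or.inr rfl) t ht
  have hLZ := Lz_le h hz j
  have hLJ : Lz z j ≤ ZJ := hLZ.trans (iSup_le fun l => hbg.fr.Z_le l)
  have hne : Lz z j ≠ ⊥ := by
    obtain ⟨i, hi⟩ := hbg.two j
    intro e
    have h1 : z i ∈ Lz z j := (le_iSup (fun l : {l : Fin k // l ≠ j} => zpowers (z l)) ⟨i, hi⟩) (mem_zpowers _)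
    rw [e, mem_bot] at h1
    exact (hz i).2.1 h1
  have hcY := cent_Lz z j
  have hYc : R ≤ centralizer (Lz z j : Set G) := hRY.trans hcY.ge
  have hTc : TT S W ≤ centralizer (Lz z j : Set G) := (syl_TT h hz j).1.trans hcY.ge
  refine CaseLQ.noW_core' h (by norm_num) hBT hTS hTZ hLJ hne hLZ (hcY.symm ▸ syl_TT h hz j) hYc hRs hR hc nQ hLZ
    hTc (zc_le h hz j) (fun hle => hmv fun r hr => ?_) (fun F hF hFR => ?_)
  · have h1 : z j ∈ Z j ⊓ centralizer (TT S W : Set G) := ⟨(hz j).1, mem_centralizer_iff.2 fun t ht => hTz j t ht⟩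
    exact (mem_centralizer_iff.1 (hle hr) _ h1).symm
  · have h1 : F ≤ centralizer (R : Set G) := hF.trans (le_centralizer_iff.1 hYc)
    rw [inf_eq_left.2 h1] at hFR
    subst hFR
    rw [card_bot]
    exact CaseLQ.NoWEnd.one_lt_fixed h hBT hTS hTZ

end four

end Cfsg.Agent.Omega.EK3.QL
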