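import Cfsg.Agent.Mrg.Omega.EK3.QL.All
import Cfsg.Agent.Mrg.Omega.EK3.QL.NoWFour
import Cfsg.Agent.Mrg.Omega.EK3.QX.TiX
import Cfsg.Agent.Mrg.Omega.EK3.QG.OfMulX
import Cfsg.Agent.Mrg.Omega.NO3S.EThree.Row7X
import Cfsg.Agent.Mrg.Omega.CaseLQ.NoWDone


/-!
# The sockets `TiX K` (row (7)) and `TiWX K` (row (8)) over `MulX.MulL`, from THEOREM L(q)

* `OffNK K` : `OffN` (`QL/LowE.lean`) for all `MulL`, `k ≥ 2`, `q ≥ 4`;
* **`tiX : MLK → Ext → OffNK K → Row7X.TiX K`**;  **`tiWX : MLK → Ext → OffNK K → QG.TiWX K`**.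
-/

set_option autoImplicit false
set_option linter.unusedSectionVars false

namespace Cfsg.Agent.Omega.EK3.QL

open Subgroup Cfsg Cfsg.Agent.ZN.ChoiceBase
open Cfsg.Agent.ZN (jj zj bau zc zl o2)
open Cfsg.Agent.Omega.Frame (Cls)
open Cfsg.Agent.Omega.NO3S.EThree.Frame (TI)
open Cfsg.Agent.Omega.Node.MultiOf
open Cfsg.Agent.Omega.Node.MulX
open Cfsg.Agent.Omega.EK3.Q (TOne HZ YQ)
open Cfsg.Agent.Omega.ML.Final (MLK)

universe u

section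

variable {G : Type u} [Group G] [Finite G] {S : Sylow 2 G} {P B ZJ : Subgroup G}

/-- **(T1)** over `MulL`, from `OffN` only. -/
theorem tOne {k : ℕ} {L W Z C A : Fin k → Subgroup G} {q : ℕ} (h : MulL S P B ZJ L W Z C A q) (hk : 2 ≤ k)
    (hq : 4 ≤ q) (hML : MLK.{u, u}) (hX : ML.Ex.Two.Ext.{u, u}) (hE : NLoc (KX B ZJ (zl (S : Subgroup G) P)))
    (hN : OffN h) : TOne ZJ Z :=
  tOne_all h hk hq hML hX hE hN fun e z hz => by
    subst e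
    exact noW4 h hz

theorem noWL_of {L W Z C A : Fin 2 → Subgroup G} {q : ℕ} (h : MulL S P B ZJ L W Z C A q) (hq : 3 ≤ q) :
    QX.NoWL S P B Z := fun _ _ hij _ hD hD1 _ _ hBT hTS hT hR hRD _ hmv hcnt =>
  CaseLQ.NoWTi.noWL h hq hij hD hD1 hBT hTS hT hR hRD hmv hcnt

/-- **(TI)**, `k = 2`, `q ≥ 4`. -/
theorem ti_two {L W Z C A : Fin 2 → Subgroup G} {q : ℕ} (h : MulL S P B ZJ L W Z C A q) (hq : 4 ≤ q)
    (hML : MLK.{u, u}) (hX : ML.Ex.Two.Ext.{u, u}) (hE : NLoc (KX B ZJ (zl (S : Subgroup G) P))) (hN : OffN h) :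
    ∀ i, TI (Z i) :=
  QX.ti_two h hq (tOne h le_rfl hq hML hX hE hN) (noWL_of h (by omega))

end

/-- **THEOREM L(q)** over `MulL`. -/
def OffNK (K : Cls.{u}) : Prop :=
  ∀ (G : Type u) [Group G] [Finite G], K G → ∀ (S : Sylow 2 G) (P B ZJ : Subgroup G) (k : ℕ)
    (L W Z C A : Fin k → Subgroup G) (q : ℕ), 2 ≤ k → 4 ≤ q → ∀ h : MulL S P B ZJ L W Z C A q, OffN h

variable {K : Cls.{u}}

/-- **socket (TI) of row (7)** -/
theorem tiX (hML : MLK.{u, u}) (hX : ML.Ex.Two.Ext.{u, u}) (hO : OffNK K) : NO3S.EThree.Row7X.TiX K :=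
  fun G _ _ hG S P B ZJ L W Z C A q hq h hE =>
    ti_two h hq hML hX hE (hO G hG S P B ZJ 2 L W Z C A q le_rfl hq h)

/-- **socket (weak TI) of row (8)** -/
theorem tiWX (hML : MLK.{u, u}) (hX : ML.Ex.Two.Ext.{u, u}) (hO : OffNK K) : QG.TiWX K :=
  fun G _ _ hG S P B ZJ k L W Z C A q hk hq h hE j _ hm h1 =>
    QX.tiW_of h.bg (tOne h (by omega) hq hML hX hE (hO G hG S P B ZJ k L W Z C A q (by omega) hq h)) j hm h1

end Cfsg.Agent.Omega.EK3.QL
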